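import Mathlib.AlgebraicGeometry.ValuativeCriterion
import Mathlib.AlgebraicGeometry.Limits
import Mathlib.AlgebraicGeometry.Morphisms.Proper
import Mathlib.Topology.Constructible

/-!
# A finite coproduct of proper schemes is proper
-/

set_option autoImplicit false
universe u

namespace Groth.Agent.H22.SigmaProper

open AlgebraicGeometry CategoryTheory Limits TopologicalSpace

variable {ι : Type u} (C : ι → Scheme.{u})

lemma exists_sigmaι_eq (x : (∐ C : Scheme.{u})) : ∃ (i : ι) (c : C i), Sigma.ι C i c = x := by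
  obtain ⟨⟨i, c⟩, rfl⟩ := (sigmaMk C).surjective x
  exact ⟨i, c, (sigmaMk_mk C i c).symm⟩

/-- A morphism from a local scheme to a coproduct factors through one of the summands. -/
lemma exists_lift_spec {R : Type u} [CommRing R] [IsLocalRing R]
    (g : Spec (CommRingCat.of R) ⟶ ∐ C) (i : ι) (x : Spec (CommRingCat.of R))
    (hx : g x ∈ (Sigma.ι C i).opensRange) :
    ∃ g' : Spec (CommRingCat.of R) ⟶ C i, g' ≫ Sigma.ι C i = g := by
  obtain ⟨j, c, hc⟩ := exists_sigmaι_eq C (g (IsLocalRing.closedPoint R))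
  have h1 : g ⁻¹ᵁ (Sigma.ι C j).opensRange = ⊤ :=
    (IsLocalRing.closedPoint_mem_iff (R := R) (g ⁻¹ᵁ (Sigma.ι C j).opensRange)).mp ⟨c, hc⟩
  have h2 : g x ∈ (Sigma.ι C j).opensRange := by
    have : x ∈ g ⁻¹ᵁ (Sigma.ι C j).opensRange := by rw [h1]; trivial
    exact this
  obtain rfl : i = j := by
    by_contra hij
    have := disjoint_opensRange_sigmaι C i j hij
    exact (Set.disjoint_left.mp (by simpa [disjoint_iff, Opens.ext_iff, Set.disjoint_iff_inter_eq_empty] using this) hx h2)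
  refine ⟨IsOpenImmersion.lift (Sigma.ι C i) g ?_, IsOpenImmersion.lift_fac _ _ _⟩
  rintro _ ⟨t, rfl⟩
  have : t ∈ g ⁻¹ᵁ (Sigma.ι C i).opensRange := by rw [h1]; trivial
  exact this

variable {C} {S : Scheme.{u}} (f : ∀ i, C i ⟶ S)

lemma sigmaDesc_sigmaι_apply (i : ι) (c : C i) : (Sigma.desc f) (Sigma.ι C i c) = f i c := by
  rw [← Scheme.Hom.comp_apply, Sigma.ι_desc]

instance quasiCompact_sigmaDesc [Finite ι] [∀ i, QuasiCompact (f i)] :
    QuasiCompact (Sigma.desc f) := by
  refine ⟨fun U hU hUc => ?_⟩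
  have : (Sigma.desc f) ⁻¹' U = ⋃ i, (Sigma.ι C i) '' ((f i) ⁻¹' U) := by
    ext x
    constructor
    · intro hx
      obtain ⟨i, c, rfl⟩ := exists_sigmaι_eq C x
      refine Set.mem_iUnion.mpr ⟨i, c, ?_, rfl⟩
      rw [Set.mem_preimage, sigmaDesc_sigmaι_apply] at hx
      exact hx
    · intro hx
      obtain ⟨i, c, hc, rfl⟩ := Set.mem_iUnion.mp hx
      rw [Set.mem_preimage, sigmaDesc_sigmaι_apply]
      exact hc
  rw [this]
  exact isCompact_iUnion fun i =>
    (QuasiCompact.isCompact_preimage (f := f i) U hU hUc).image (Sigma.ι C i).continuous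

instance locallyOfFiniteType_sigmaDesc [∀ i, LocallyOfFiniteType (f i)] :
    LocallyOfFiniteType (Sigma.desc f) :=
  IsZariskiLocalAtSource.sigmaDesc (P := @LocallyOfFiniteType) fun _ => inferInstance

lemma isClosed_range_sigmaι (i : ι) : IsClosed (Set.range (Sigma.ι C i)) := by
  have : (Set.range (Sigma.ι C i))ᶜ = ⋃ j : {j // j ≠ i}, Set.range (Sigma.ι C j.1) := by
    ext x
    constructor
    · intro hx
      obtain ⟨j, c, rfl⟩ := exists_sigmaι_eq C x
      have hji : j ≠ i := by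
        rintro rfl
        exact hx ⟨c, rfl⟩
      exact Set.mem_iUnion.mpr ⟨⟨j, hji⟩, c, rfl⟩
    · intro hx
      obtain ⟨⟨j, hji⟩, c, rfl⟩ := Set.mem_iUnion.mp hx
      rintro ⟨c', hc'⟩
      have := (sigmaι_eq_iff _ _ _ _ _).mp hc'
      exact hji (congrArg Sigma.fst this).symm
  rw [← isOpen_compl_iff, this]
  exact isOpen_iUnion fun j => (Sigma.ι C j.1).isOpenEmbedding.isOpen_range

lemma quasiSeparatedSpace_sigma [∀ i, QuasiSeparatedSpace (C i)] :
    QuasiSeparatedSpace (∐ C : Scheme.{u}) := by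
  refine QuasiSeparatedSpace.of_isOpenCover (U := fun i => (Sigma.ι C i).opensRange) ?_ ?_ ?_
  · rw [TopologicalSpace.IsOpenCover, eq_top_iff]
    intro x _
    obtain ⟨i, c, rfl⟩ := exists_sigmaι_eq C x
    exact Opens.mem_iSup.mpr ⟨i, c, rfl⟩
  · intro i U hUc hUo
    exact hUc.inter_left (isClosed_range_sigmaι i)
  · intro i
    have := (Sigma.ι C i).isOpenEmbedding.isQuasiSeparated_iff (s := Set.univ)
    rw [Set.image_univ] at this
    exact this.mp (isQuasiSeparated_univ_iff.mpr inferInstance)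

theorem valuativeCriterion_sigmaDesc [∀ i, IsProper (f i)] :
    ValuativeCriterion (Sigma.desc f) := by
  rw [ValuativeCriterion.iff]
  constructor
  · intro V
    obtain ⟨i, c, hc⟩ := exists_sigmaι_eq C (V.i₁ (IsLocalRing.closedPoint V.K))
    obtain ⟨i₁', hi₁'⟩ := exists_lift_spec C V.i₁ i (IsLocalRing.closedPoint V.K) ⟨c, hc⟩
    have hw : i₁' ≫ f i = Spec.map (CommRingCat.ofHom (algebraMap V.R V.K)) ≫ V.i₂ := by
      rw [← V.commSq.w, ← hi₁', Category.assoc, Sigma.ι_desc]
    let V' : ValuativeCommSq (f i) := ⟨V.R, V.K, i₁', V.i₂, ⟨hw⟩⟩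
    have hex : (ValuativeCriterion.Existence ⊓ @QuasiCompact) (f i) :=
      UniversallyClosed.eq_valuativeCriterion ▸ (inferInstance : UniversallyClosed (f i))
    obtain ⟨l⟩ := (hex.1 V').exists_lift
    refine ⟨⟨⟨l.l ≫ Sigma.ι C i, ?_, ?_⟩⟩⟩
    · exact (Category.assoc _ _ _).symm.trans
        ((congrArg (· ≫ Sigma.ι C i) l.fac_left).trans hi₁')
    · rw [Category.assoc, Sigma.ι_desc]
      exact l.fac_right
  · intro V
    obtain ⟨i, c, hc⟩ := exists_sigmaι_eq C (V.i₁ (IsLocalRing.closedPoint V.K))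
    obtain ⟨i₁', hi₁'⟩ := exists_lift_spec C V.i₁ i (IsLocalRing.closedPoint V.K) ⟨c, hc⟩
    have hw : i₁' ≫ f i = Spec.map (CommRingCat.ofHom (algebraMap V.R V.K)) ≫ V.i₂ := by
      rw [← V.commSq.w, ← hi₁', Category.assoc, Sigma.ι_desc]
    let V' : ValuativeCommSq (f i) := ⟨V.R, V.K, i₁', V.i₂, ⟨hw⟩⟩
    have huniq : Subsingleton V'.commSq.LiftStruct := IsSeparated.valuativeCriterion (f i) V'
    have key : ∀ l : V.commSq.LiftStruct, ∃ l' : V'.commSq.LiftStruct, l'.l ≫ Sigma.ι C i = l.l := by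
      intro l
      obtain ⟨l', hl'⟩ := exists_lift_spec C l.l i
        ((Spec.map (CommRingCat.ofHom (algebraMap V.R V.K))) (IsLocalRing.closedPoint V.K)) (by
          rw [← Scheme.Hom.comp_apply, l.fac_left]
          exact ⟨c, hc⟩)
      refine ⟨⟨l', ?_, ?_⟩, hl'⟩
      · rw [← cancel_mono (Sigma.ι C i), Category.assoc, hl', l.fac_left, hi₁']
      · have := l.fac_right
        rw [← hl', Category.assoc, Sigma.ι_desc] at this
        exact this
    constructor
    intro l₁ l₂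
    obtain ⟨l₁', h₁⟩ := key l₁
    obtain ⟨l₂', h₂⟩ := key l₂
    ext : 1
    rw [← h₁, ← h₂, Subsingleton.elim l₁' l₂']

/-- A finite coproduct of proper `S`-schemes is proper over `S`. -/
theorem isProper_sigmaDesc [Finite ι] [QuasiSeparatedSpace S] [∀ i, IsProper (f i)] :
    IsProper (Sigma.desc f) := by
  have : ∀ i, QuasiSeparatedSpace (C i) := fun i => quasiSeparatedSpace_of_quasiSeparated (f i)
  have : QuasiSeparatedSpace (∐ C : Scheme.{u}) := quasiSeparatedSpace_sigma
  have : QuasiSeparated (Sigma.desc f) := (quasiSeparated_iff_quasiSeparatedSpace _).mpr this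
  exact IsProper.of_valuativeCriterion _ (valuativeCriterion_sigmaDesc f)

end Groth.Agent.H22.SigmaProper
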